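import Groth.Prelude.Def_W4c1tameactTame
import Mathlib

/-! Total integrals: the averaging map of a relative Hopf module. -/

set_option autoImplicit false

universe u v w w' w''

open TensorProduct Coalgebra WithConv

noncomputable section

namespace Groth.Agent.TameInt

section Hopf

variable {k : Type u} [CommRing k] {A : Type v} [CommRing A] [HopfAlgebra k A]

local notation "S" => HopfAlgebra.antipode k (A := A)

lemma comul_antipode (a : A) : comul (R := k) (S a) = TensorProduct.comm k A A (TensorProduct.map S S (comul a)) := by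
  let i₁ : A →ₐ[k] A ⊗[k] A := Algebra.TensorProduct.includeLeft
  let i₂ : A →ₐ[k] A ⊗[k] A := Algebra.TensorProduct.includeRight
  let D := Bialgebra.comulAlgHom k A
  let Sa := HopfAlgebra.antipodeAlgHom k A
  have hinv : ∀ h : A →ₐ[k] A ⊗[k] A, toConv h * toConv (h.comp Sa) = 1 ∧ toConv (h.comp Sa) * toConv h = 1 := fun h =>
    ⟨mul_inv_cancel (toConv h), inv_mul_cancel (toConv h)⟩
  have hD : toConv D = toConv i₁ * toConv i₂ := by
    refine WithConv.ext (AlgHom.ext fun a => ?_)
    rw [AlgHom.convMul_apply]
    show comul (R := k) a = _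
    induction comul (R := k) a using TensorProduct.induction_on with
    | zero => simp
    | tmul y z => simp [i₁, i₂]
    | add y z hy hz => simp only [map_add, ← hy, ← hz]
  have hright : toConv D * (toConv (i₂.comp Sa) * toConv (i₁.comp Sa)) = 1 := by
    rw [hD, mul_assoc, ← mul_assoc (toConv i₂), (hinv i₂).1, one_mul, (hinv i₁).1]
  have key := congr_arg (fun z : WithConv (A →ₐ[k] A ⊗[k] A) => z.ofConv a) (left_inv_eq_right_inv (hinv D).2 hright)
  simp only [ofConv_toConv, AlgHom.comp_apply, AlgHom.convMul_apply] at key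
  refine key.trans ?_
  generalize comul (R := k) a = t
  induction t using TensorProduct.induction_on with
  | zero => simp
  | tmul x y => simp [i₁, i₂, Sa]
  | add x y hx hy => simp only [map_add, hx, hy]

/-- `Σ Δ(S b₂)(1 ⊗ b₁) = S b ⊗ 1`. -/
lemma comul_antipode_snd_mul (b : A) :
    TensorProduct.lift ((LinearMap.mul k (A ⊗[k] A)).flip.compl₁₂ (TensorProduct.mk k A A 1) (comul ∘ₗ S))
      (comul b) = S b ⊗ₜ[k] (1 : A) := by
  let K : A ⊗[k] (A ⊗[k] A) →ₗ[k] A ⊗[k] A :=
    TensorProduct.lift ((LinearMap.mul k (A ⊗[k] A)).flip.compl₁₂ (TensorProduct.mk k A A 1)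
      ((TensorProduct.comm k A A).toLinearMap ∘ₗ TensorProduct.map S S))
  have h1 : TensorProduct.lift ((LinearMap.mul k (A ⊗[k] A)).flip.compl₁₂
      (TensorProduct.mk k A A 1) (comul ∘ₗ S)) (comul b) = K (comul.lTensor A (comul b)) := by
    generalize comul (R := k) b = t
    induction t using TensorProduct.induction_on with
    | zero => simp
    | tmul x y => simp [K, comul_antipode]
    | add x y hx hy => simp only [map_add, hx, hy]
  rw [h1, ← coassoc_apply]
  have h2 : ∀ (c : A) (b3 : A), K (TensorProduct.assoc k A A A (comul c ⊗ₜ b3)) =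
      (S b3 ⊗ₜ[k] algebraMap k A (counit c)) := by
    intro c b3
    rw [← HopfAlgebra.mul_antipode_lTensor_comul_apply (R := k) c]
    generalize comul (R := k) c = t
    induction t using TensorProduct.induction_on with
    | zero => simp
    | tmul x y => simp [K, mul_comm x]
    | add x y hx hy => simp only [add_tmul, map_add, tmul_add, hx, hy]
  have h3 : ∀ t : A ⊗[k] A, K (TensorProduct.assoc k A A A (comul.rTensor A t)) =
      S (TensorProduct.lid k A (counit.rTensor A t)) ⊗ₜ[k] (1 : A) := by
    intro t
    induction t using TensorProduct.induction_on with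
    | zero => simp
    | tmul x y =>
      rw [LinearMap.rTensor_tmul, h2, LinearMap.rTensor_tmul, TensorProduct.lid_tmul, map_smul,
        smul_tmul, Algebra.algebraMap_eq_smul_one]
    | add x y hx hy => simp only [map_add, hx, hy, add_tmul]
  rw [h3, rTensor_counit_comul, TensorProduct.lid_tmul, one_smul]

variable {B : Type w} [CommRing B] [Algebra k B]
variable {M : Type w'} [AddCommGroup M] [Module k M] [Module B M] [IsScalarTower k B M] [HopfRep.Comod k A M]

variable (M) in
/-- `m ⊗ a ↦ α(a) • m`. -/
def act (α : A →ₗ[k] B) : M ⊗[k] A →ₗ[k] M :=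
  TensorProduct.lift ((Algebra.lsmul k k M : B →ₐ[k] Module.End k M).toLinearMap ∘ₗ α).flip

omit [HopfRep.Comod k A M] in
@[simp] lemma act_tmul (α : A →ₗ[k] B) (m : M) (a : A) : act M α (m ⊗ₜ a) = α a • m := rfl

variable (k A) in
/-- `x ⊗ y ↦ S(x) y`. -/
def smulS : A ⊗[k] A →ₗ[k] A := LinearMap.mul' k A ∘ₗ (S).rTensor A

variable (M) in
/-- The averaging map `m ⊗ a ↦ Σ α(S(m₁) a) • m₀`. -/
def avg (α : A →ₗ[k] B) : M ⊗[k] A →ₗ[k] M :=
  act M α ∘ₗ (smulS k A).lTensor M ∘ₗ (TensorProduct.assoc k M A A).toLinearMap ∘ₗ
    (HopfRep.Comod.coact (k := k) (A := A) (V := M)).rTensor A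

lemma avg_coact {α : A →ₗ[k] B} (h1 : α 1 = 1) (m : M) :
    avg M α (HopfRep.Comod.coact (k := k) (A := A) m) = m := by
  show act M α ((smulS k A).lTensor M (TensorProduct.assoc k M A A _)) = m
  rw [show TensorProduct.assoc k M A A ((HopfRep.Comod.coact (k := k) (A := A) (V := M)).rTensor A
      (HopfRep.Comod.coact (k := k) (A := A) m)) = _ from LinearMap.congr_fun HopfRep.Comod.coassoc m,
    LinearMap.comp_apply]
  have hc : ∀ t : M ⊗[k] A, act M α ((smulS k A).lTensor M ((comul (R := k) (A := A)).lTensor M t)) =
      TensorProduct.rid k M ((counit (R := k) (A := A)).lTensor M t) := by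
    intro t
    induction t using TensorProduct.induction_on with
    | zero => simp
    | add x y hx hy => simp only [map_add, hx, hy]
    | tmul x b =>
      simp only [LinearMap.lTensor_tmul, smulS, LinearMap.comp_apply, TensorProduct.rid_tmul]
      rw [HopfAlgebra.mul_antipode_rTensor_comul_apply, act_tmul, Algebra.algebraMap_eq_smul_one, map_smul, h1,
        smul_assoc, one_smul]
  rw [hc, show (counit (R := k) (A := A)).lTensor M (HopfRep.Comod.coact (k := k) (A := A) m) = m ⊗ₜ 1 from
    LinearMap.congr_fun HopfRep.Comod.counit_comp m, TensorProduct.rid_tmul, one_smul]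

lemma avg_tmul (α : A →ₗ[k] B) (m : M) (a : A) : avg M α (m ⊗ₜ a) =
    act M α ((LinearMap.mulRight k a ∘ₗ S).lTensor M (HopfRep.Comod.coact (k := k) (A := A) m)) := by
  show act M α ((smulS k A).lTensor M (TensorProduct.assoc k M A A (HopfRep.Comod.coact (k := k) (A := A) m ⊗ₜ a))) = _
  generalize HopfRep.Comod.coact (k := k) (A := A) m = t
  induction t using TensorProduct.induction_on with
  | zero => simp
  | add x y hx hy => simp only [map_add, TensorProduct.add_tmul, hx, hy]
  | tmul x b => simp [smulS]

lemma avg_tmul_one (α : A →ₗ[k] B) (m : M) : avg M α (m ⊗ₜ 1) = TameAct.reynolds k A B M α m := by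
  rw [avg_tmul, TameAct.reynolds, LinearMap.comp_apply]
  generalize HopfRep.Comod.coact (k := k) (A := A) m = t
  induction t using TensorProduct.induction_on with
  | zero => simp
  | add x y hx hy => simp only [map_add, hx, hy]
  | tmul x b => simp

omit [HopfRep.Comod k A M] in
lemma hmSMul_rTensor (α : A →ₗ[k] B) (z : A ⊗[k] A) (x : M) (p : A) :
    TameAct.hmSMul k A B M (α.rTensor A z) (x ⊗ₜ p) =
      ((LinearMap.toSpanSingleton B M x).restrictScalars k).rTensor A (α.rTensor A (z * ((1 : A) ⊗ₜ p))) := by
  induction z using TensorProduct.induction_on with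
  | zero => simp
  | tmul c d => simp
  | add u v hu hv => simp only [map_add, add_mul, LinearMap.add_apply, hu, hv]

variable [HopfRep.Comod k A B] [TameAct.IsHopfMod k A B M]

/-- The averaging map is a map of comodules out of the induced comodule. -/
theorem avg_isComodHom {α : A →ₗ[k] B} (hα : Hoch.IsComodHom A α) :
    Hoch.IsComodHom A (V := Hoch.Ind k A M) (avg M α ∘ₗ (Hoch.Ind.equiv k A M).symm.toLinearMap) := by
  refine TensorProduct.ext' fun m a => ?_
  show HopfRep.Comod.coact (k := k) (A := A) (avg M α (m ⊗ₜ a)) =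
    (avg M α).rTensor A ((TensorProduct.assoc k M A A).symm (m ⊗ₜ comul (R := k) a))
  let G : (M ⊗[k] A) ⊗[k] A →ₗ[k] M ⊗[k] A :=
    TensorProduct.lift ((TameAct.hmSMul k A B M ∘ₗ α.rTensor A ∘ₗ comul).flip)
  have hG : ∀ (y : M ⊗[k] A) (c : A), G (y ⊗ₜ c) = TameAct.hmSMul k A B M (α.rTensor A (comul c)) y := fun _ _ => rfl
  have h0 : ∀ t : M ⊗[k] A, HopfRep.Comod.coact (k := k) (A := A) (act M α t) =
      G ((HopfRep.Comod.coact (k := k) (A := A) (V := M)).rTensor A t) := by
    intro t
    induction t using TensorProduct.induction_on with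
    | zero => simp
    | add x y hx hy => simp only [map_add, hx, hy]
    | tmul x c =>
      rw [act_tmul, TameAct.IsHopfMod.coact_smul, LinearMap.rTensor_tmul, hG,
        show HopfRep.Comod.coact (k := k) (A := A) (α c) = α.rTensor A (comul c) from LinearMap.congr_fun hα c]
  have hsw : ∀ t : M ⊗[k] A, (HopfRep.Comod.coact (k := k) (A := A) (V := M)).rTensor A
      ((LinearMap.mulRight k a ∘ₗ S).lTensor M t) = (LinearMap.mulRight k a ∘ₗ S).lTensor (M ⊗[k] A)
        ((HopfRep.Comod.coact (k := k) (A := A) (V := M)).rTensor A t) := fun t => by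
    rw [← LinearMap.comp_apply, LinearMap.rTensor_comp_lTensor, ← LinearMap.lTensor_comp_rTensor, LinearMap.comp_apply]
  rw [avg_tmul, h0, hsw]
  have hco : (HopfRep.Comod.coact (k := k) (A := A) (V := M)).rTensor A (HopfRep.Comod.coact (k := k) (A := A) m) =
      (TensorProduct.assoc k M A A).symm ((comul (R := k) (A := A)).lTensor M (HopfRep.Comod.coact (k := k) (A := A) m)) :=
    (LinearEquiv.eq_symm_apply _).2 (LinearMap.congr_fun HopfRep.Comod.coassoc m)
  rw [hco]
  let W : A ⊗[k] A →ₗ[k] M ⊗[k] A →ₗ[k] M ⊗[k] A :=
    TensorProduct.lift (LinearMap.mk₂ k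
      (fun (a₁ a₂ : A) =>
        (TensorProduct.mk k M A).flip a₂ ∘ₗ act M α ∘ₗ (LinearMap.mulRight k a₁ ∘ₗ S).lTensor M)
      (fun a a' c => LinearMap.ext fun t => by
        induction t using TensorProduct.induction_on with
        | zero => simp
        | add x y hx hy => simp only [map_add, hx, hy]
        | tmul x b => simp [mul_add, add_smul, TensorProduct.add_tmul])
      (fun r a c => LinearMap.ext fun t => by
        induction t using TensorProduct.induction_on with
        | zero => simp
        | add x y hx hy => simp only [map_add, hx, hy]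
        | tmul x b => simp [TensorProduct.smul_tmul', smul_assoc, smul_comm (α _) r])
      (fun a c c' => LinearMap.ext fun t => by simp [TensorProduct.tmul_add])
      (fun r a c => LinearMap.ext fun t => by simp))
  have hW : ∀ (z : A ⊗[k] A), (avg M α).rTensor A ((TensorProduct.assoc k M A A).symm (m ⊗ₜ z)) =
      W z (HopfRep.Comod.coact (k := k) (A := A) m) := by
    intro z
    induction z using TensorProduct.induction_on with
    | zero => simp
    | add x y hx hy => simp only [map_add, TensorProduct.tmul_add, LinearMap.add_apply, hx, hy]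
    | tmul x y => simp [W, avg_tmul]
  rw [hW]
  generalize HopfRep.Comod.coact (k := k) (A := A) m = t
  induction t using TensorProduct.induction_on with
  | zero => simp
  | add x y hx hy => simp only [map_add, hx, hy]
  | tmul x b =>
    have e1 : W (comul (R := k) a) (x ⊗ₜ b) = ((LinearMap.toSpanSingleton B M x).restrictScalars k).rTensor A
        (α.rTensor A ((S b ⊗ₜ[k] (1 : A)) * comul (R := k) a)) := by
      generalize comul (R := k) a = z
      induction z using TensorProduct.induction_on with
      | zero => simp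
      | add u v hu hv => simp only [map_add, mul_add, LinearMap.add_apply, hu, hv]
      | tmul u v => simp [W]
    rw [e1, ← comul_antipode_snd_mul, LinearMap.lTensor_tmul]
    generalize comul (R := k) b = s
    induction s using TensorProduct.induction_on with
    | zero => simp
    | add u v hu hv => simp only [TensorProduct.tmul_add, map_add, add_mul, hu, hv]
    | tmul p q =>
      simp only [TensorProduct.assoc_symm_tmul, LinearMap.lTensor_tmul, hG, LinearMap.comp_apply,
        LinearMap.mulRight_apply, TensorProduct.lift.tmul, LinearMap.compl₁₂_apply, LinearMap.flip_apply,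
        LinearMap.mul_apply', TensorProduct.mk_apply]
      rw [hmSMul_rTensor, Bialgebra.comul_mul, mul_right_comm]

theorem reynolds_mem {α : A →ₗ[k] B} (hα : Hoch.IsComodHom A α) (m : M) :
    TameAct.reynolds k A B M α m ∈ HopfRep.fixedPts k A M := by
  show HopfRep.Comod.coact (k := k) (A := A) (TameAct.reynolds k A B M α m) = TameAct.reynolds k A B M α m ⊗ₜ (1 : A)
  rw [← avg_tmul_one]
  refine (LinearMap.congr_fun (avg_isComodHom (M := M) hα) (Hoch.Ind.equiv k A M (m ⊗ₜ 1))).trans ?_
  show (avg M α).rTensor A ((TensorProduct.assoc k M A A).symm (m ⊗ₜ comul (R := k) (1 : A))) = _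
  rw [Bialgebra.comul_one, Algebra.TensorProduct.one_def, TensorProduct.assoc_symm_tmul, LinearMap.rTensor_tmul]

omit [HopfRep.Comod k A B] [TameAct.IsHopfMod k A B M] in
theorem reynolds_of_mem {α : A →ₗ[k] B} (h1 : α 1 = 1) {m : M} (hm : m ∈ HopfRep.fixedPts k A M) :
    TameAct.reynolds k A B M α m = m := by
  rw [← avg_tmul_one, ← show HopfRep.Comod.coact (k := k) (A := A) m = m ⊗ₜ (1 : A) from hm, avg_coact h1]

omit [HopfRep.Comod k A B] [TameAct.IsHopfMod k A B M] in
theorem reynolds_natural {N : Type w''} [AddCommGroup N] [Module k N] [Module B N] [IsScalarTower k B N]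
    [HopfRep.Comod k A N] (α : A →ₗ[k] B) (f : M →ₗ[B] N) (hf : Hoch.IsComodHom A (f.restrictScalars k)) (m : M) :
    f (TameAct.reynolds k A B M α m) = TameAct.reynolds k A B N α (f m) := by
  simp only [TameAct.reynolds, LinearMap.comp_apply]
  rw [show HopfRep.Comod.coact (k := k) (A := A) (f m) = (f.restrictScalars k).rTensor A
    (HopfRep.Comod.coact (k := k) (A := A) m) from LinearMap.congr_fun hf m]
  generalize HopfRep.Comod.coact (k := k) (A := A) m = t
  induction t using TensorProduct.induction_on with
  | zero => simp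
  | add x y hx hy => simp only [map_add, hx, hy]
  | tmul x b => simp

end Hopf

section Alg

variable {k : Type u} [CommRing k] {A : Type v} [CommRing A] [HopfAlgebra k A]
variable {B : Type w} [CommRing B] [Algebra k B] [HopfRep.Comod k A B] [GLin.IsCoactAlg k A B]

/-- A coaction algebra is a relative Hopf module over itself. -/
instance isHopfMod_self : TameAct.IsHopfMod k A B B where
  coact_smul b m := by
    rw [smul_eq_mul, GLin.IsCoactAlg.coact_mul]
    generalize HopfRep.Comod.coact (k := k) (A := A) b = x
    generalize HopfRep.Comod.coact (k := k) (A := A) m = y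
    induction x using TensorProduct.induction_on with
    | zero => simp
    | add u v hu hv => simp only [add_mul, map_add, LinearMap.add_apply, hu, hv]
    | tmul c d =>
      induction y using TensorProduct.induction_on with
      | zero => simp
      | add u v hu hv => simp only [mul_add, map_add, hu, hv]
      | tmul c' d' => simp

/-- The averaging of functions is linear over the invariants. -/
theorem reynolds_mul (α : A →ₗ[k] B) {c : B} (hc : c ∈ GLin.invariants k A B) (x : B) :
    TameAct.reynolds k A B B α (c * x) = c * TameAct.reynolds k A B B α x := by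
  simp only [TameAct.reynolds, LinearMap.comp_apply]
  rw [GLin.IsCoactAlg.coact_mul, show HopfRep.Comod.coact (k := k) (A := A) c = c ⊗ₜ (1 : A) from hc]
  generalize HopfRep.Comod.coact (k := k) (A := A) x = t
  induction t using TensorProduct.induction_on with
  | zero => simp
  | add u v hu hv => simp only [mul_add, map_add, hu, hv]
  | tmul u v => simp [mul_left_comm]

/-- Averaging keeps a stable ideal. -/
theorem reynolds_mem_ideal (α : A →ₗ[k] B) {b : Ideal B}
    (hb : HopfRep.IsSubcomod (k := k) (A := A) (b.restrictScalars k)) {x : B} (hx : x ∈ b) :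
    TameAct.reynolds k A B B α x ∈ b := by
  obtain ⟨t, ht⟩ := hb x hx
  rw [TameAct.reynolds, LinearMap.comp_apply, ← ht]
  clear ht
  induction t using TensorProduct.induction_on with
  | zero => simp
  | add u v hu hv => rw [map_add, map_add]; exact add_mem hu hv
  | tmul u v =>
    simp only [LinearMap.rTensor_tmul, Submodule.subtype_apply, TensorProduct.lift.tmul]
    exact b.mul_mem_left _ u.2

variable {α : A →ₗ[k] B} (hα : Hoch.IsComodHom A α) (h1 : α 1 = 1)

include hα h1 in
/-- A prime of the invariants containing the invariant part of a stable ideal lifts to a prime containing it. -/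
theorem exists_prime_over {b : Ideal B} (hb : HopfRep.IsSubcomod (k := k) (A := A) (b.restrictScalars k))
    (p : Ideal (GLin.invariants k A B)) [p.IsPrime]
    (hp : b.comap (algebraMap (GLin.invariants k A B) B) ≤ p) :
    ∃ Q : Ideal B, Q.IsPrime ∧ b ≤ Q ∧ Q.comap (algebraMap (GLin.invariants k A B) B) = p := by
  let R : B → B := TameAct.reynolds k A B B α
  have hRC : ∀ x, R x ∈ (GLin.invariants k A B) := fun x => reynolds_mem hα x
  have key : ∀ x, x ∈ b ⊔ p.map (algebraMap (GLin.invariants k A B) B) → (⟨R x, hRC x⟩ : (GLin.invariants k A B)) ∈ p := by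
    intro x hx
    obtain ⟨y, hy, z, hz, rfl⟩ := Submodule.mem_sup.1 hx
    have hy' : (⟨R y, hRC y⟩ : (GLin.invariants k A B)) ∈ p := hp (show R y ∈ b from reynolds_mem_ideal α hb hy)
    have hz' : (⟨R z, hRC z⟩ : (GLin.invariants k A B)) ∈ p := by
      clear hx
      rw [Ideal.map] at hz
      suffices h : ∀ d : B, (⟨R (d • z), hRC _⟩ : (GLin.invariants k A B)) ∈ p by
        have h' := h 1
        simp only [one_smul] at h'
        exact h'
      induction hz using Submodule.span_induction with
      | mem w hw =>
        obtain ⟨c, hc, rfl⟩ := hw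
        intro d
        have : (⟨R (d • algebraMap (GLin.invariants k A B) B c), hRC _⟩ : (GLin.invariants k A B)) = c * ⟨R d, hRC d⟩ :=
          Subtype.ext (by show R (d * (c : B)) = (c : B) * R d; rw [mul_comm]; exact reynolds_mul α c.2 d)
        rw [this]; exact Ideal.mul_mem_right _ _ hc
      | zero =>
        intro d
        have : (⟨R (d • (0 : B)), hRC _⟩ : (GLin.invariants k A B)) = 0 := Subtype.ext (by simp [R])
        rw [this]; exact zero_mem _
      | add u v _ _ hu hv =>
        intro d
        have : (⟨R (d • (u + v)), hRC _⟩ : (GLin.invariants k A B)) = ⟨R (d • u), hRC _⟩ + ⟨R (d • v), hRC _⟩ :=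
          Subtype.ext (by show R (d • (u + v)) = _; rw [smul_add]; exact map_add _ _ _)
        rw [this]; exact add_mem (hu d) (hv d)
      | smul e w _ hw =>
        intro d
        have : (⟨R (d • e • w), hRC _⟩ : (GLin.invariants k A B)) = ⟨R ((d * e) • w), hRC _⟩ := Subtype.ext (by rw [smul_smul])
        rw [this]; exact hw _
    have : (⟨R (y + z), hRC _⟩ : (GLin.invariants k A B)) = ⟨R y, hRC y⟩ + ⟨R z, hRC z⟩ := Subtype.ext (map_add _ y z)
    rw [this]; exact add_mem hy' hz'
  obtain ⟨Q, hQ, hJQ, hdisj⟩ := Ideal.exists_le_prime_disjoint (b ⊔ p.map (algebraMap (GLin.invariants k A B) B))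
    (p.primeCompl.map (algebraMap (GLin.invariants k A B) B).toMonoidHom) (Set.disjoint_left.2 fun x hx hx' => by
      obtain ⟨c, hc, rfl⟩ := hx'
      have := key _ hx
      rw [show (⟨R ((algebraMap (GLin.invariants k A B) B).toMonoidHom c), hRC _⟩ : (GLin.invariants k A B)) = c from Subtype.ext (reynolds_of_mem h1 c.2)] at this
      exact hc this)
  refine ⟨Q, hQ, le_sup_left.trans hJQ, le_antisymm (fun c hc => ?_) (Ideal.map_le_iff_le_comap.1 (le_sup_right.trans hJQ))⟩
  by_contra h
  exact Set.disjoint_left.1 hdisj hc ⟨c, h, rfl⟩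

include hα h1 in
theorem comap_map (c : Ideal (GLin.invariants k A B)) :
    (c.map (algebraMap (GLin.invariants k A B) B)).comap (algebraMap (GLin.invariants k A B) B) = c := by
  refine le_antisymm (fun x hx => ?_) Ideal.le_comap_map
  let R : B →ₗ[(GLin.invariants k A B)] (GLin.invariants k A B) :=
    { toFun := fun y => ⟨TameAct.reynolds k A B B α y, reynolds_mem hα y⟩
      map_add' := fun u v => Subtype.ext (map_add _ u v)
      map_smul' := fun d u => Subtype.ext (by
        show TameAct.reynolds k A B B α ((d : B) * u) = (d : B) * TameAct.reynolds k A B B α u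
        exact reynolds_mul α d.2 u) }
  have hmem : algebraMap (GLin.invariants k A B) B x ∈ (c • ⊤ : Submodule (GLin.invariants k A B) B) := by
    rw [Ideal.smul_top_eq_map]; exact hx
  have h3 : R (algebraMap (GLin.invariants k A B) B x) ∈ (c • ⊤ : Submodule (GLin.invariants k A B) B).map R := Submodule.mem_map_of_mem hmem
  rw [Submodule.map_smul''] at h3
  have h4 : R (algebraMap (GLin.invariants k A B) B x) = x := Subtype.ext (reynolds_of_mem h1 x.2)
  rw [h4] at h3
  exact (Submodule.smul_le.2 fun r hr y _ => Ideal.mul_mem_right y c hr : c • (Submodule.map R ⊤) ≤ c) h3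

end Alg

section Trivial

variable {k : Type u} [CommRing k] {A : Type v} [CommRing A] [Bialgebra k A]
variable {B : Type w} [CommRing B] [Algebra k B] [HopfRep.Comod k A B] [GLin.IsCoactAlg k A B]

/-- An integral with values in the base gives a total integral. -/
theorem exists_of_trivial (α₀ : A →ₗ[k] k) (h : ∀ a, TensorProduct.lid k A (α₀.rTensor A (comul (R := k) a)) =
    algebraMap k A (α₀ a)) (h1 : α₀ 1 = 1) : ∃ α : A →ₗ[k] B, Hoch.IsComodHom A α ∧ α 1 = 1 := by
  refine ⟨(Algebra.linearMap k B) ∘ₗ α₀, LinearMap.ext fun a => ?_, by simp [h1]⟩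
  have e : ∀ t : A ⊗[k] A, (Algebra.linearMap k B ∘ₗ α₀).rTensor A t = (1 : B) ⊗ₜ TensorProduct.lid k A (α₀.rTensor A t) := by
    intro t
    induction t using TensorProduct.induction_on with
    | zero => simp
    | add u v hu hv => simp only [map_add, TensorProduct.tmul_add, hu, hv]
    | tmul u v => simp [Algebra.algebraMap_eq_smul_one, TensorProduct.smul_tmul]
  show HopfRep.Comod.coact (k := k) (A := A) (algebraMap k B (α₀ a)) = (Algebra.linearMap k B ∘ₗ α₀).rTensor A (comul (R := k) a)
  rw [e, h, Algebra.algebraMap_eq_smul_one, map_smul, GLin.IsCoactAlg.coact_one (k := k) (A := A) (R := B),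
    Algebra.TensorProduct.one_def, Algebra.algebraMap_eq_smul_one, TensorProduct.tmul_smul]

end Trivial

end Groth.Agent.TameInt
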