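import Mathlib

/-! Categorical quotient of an affine scheme by an action with a retraction onto the invariants. -/

set_option autoImplicit false

universe u

open CategoryTheory AlgebraicGeometry Limits TensorProduct

noncomputable section

namespace Groth.Agent.TameInt

/-- A ring map with a linear retraction gives an epimorphism of spectra. -/
theorem epi_spec {L M : Type u} [CommRing L] [CommRing M] [Algebra L M] (r : M →ₗ[L] L) (hr : r 1 = 1) :
    Epi (Spec.map (CommRingCat.ofHom (algebraMap L M))) := by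
  have hinj : ∀ (L' : Type u) [CommRing L'] [Algebra L L'], Function.Injective (algebraMap L' (L' ⊗[L] M)) := by
    intro L' _ _ x y h
    have := congrArg (fun z => TensorProduct.rid L L' (r.lTensor L' z)) h
    simpa [Algebra.TensorProduct.algebraMap_apply, hr] using this
  have hsurj : Function.Surjective (PrimeSpectrum.comap (algebraMap L M)) := by
    intro q
    let κ := q.asIdeal.ResidueField
    haveI : Nontrivial (κ ⊗[L] M) := (hinj κ).nontrivial
    obtain ⟨P⟩ : Nonempty (PrimeSpectrum (κ ⊗[L] M)) := inferInstance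
    refine ⟨PrimeSpectrum.comap (Algebra.TensorProduct.includeRight : M →ₐ[L] κ ⊗[L] M).toRingHom P, ?_⟩
    rw [← PrimeSpectrum.comap_comp_apply, AlgHom.toRingHom_eq_coe, AlgHom.comp_algebraMap,
      IsScalarTower.algebraMap_eq L κ (κ ⊗[L] M), PrimeSpectrum.comap_comp_apply]
    refine PrimeSpectrum.ext ?_
    show (PrimeSpectrum.comap (algebraMap κ (κ ⊗[L] M)) P).asIdeal.comap (algebraMap L κ) = q.asIdeal
    rw [Ideal.eq_bot_of_prime (PrimeSpectrum.comap (algebraMap κ (κ ⊗[L] M)) P).asIdeal, ← RingHom.ker_eq_comap_bot,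
      Ideal.ker_algebraMap_residueField]
  let π := Spec.map (CommRingCat.ofHom (algebraMap L M))
  constructor
  intro Z a b h
  have hb : a.base = b.base := by
    ext y
    obtain ⟨x, rfl⟩ := hsurj y
    exact congr($h x)
  refine Scheme.hom_ext_of_forall a b fun x => ?_
  obtain ⟨W, hW, hxW, -⟩ :=
    TopologicalSpace.Opens.isBasis_iff_nbhd.mp Z.isBasis_affineOpens (show a x ∈ (⊤ : Z.Opens) from trivial)
  obtain ⟨_, ⟨_, ⟨f, rfl⟩, rfl⟩, hxf, hfW⟩ := (PrimeSpectrum.isBasis_basic_opens (R := L)).exists_subset_of_mem_open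
    (show x ∈ ((a ⁻¹ᵁ W : (Spec (CommRingCat.of L)).Opens) : Set _) from hxW) (a ⁻¹ᵁ W).isOpen
  let L' := Localization.Away f
  let j : Spec (CommRingCat.of L') ⟶ Spec (CommRingCat.of L) := Spec.map (CommRingCat.ofHom (algebraMap L L'))
  have hj : j ≫ a = j ≫ b := by
    have hrj : ∀ z, j z ∈ (PrimeSpectrum.basicOpen f : Set (PrimeSpectrum L)) := fun z => by
      rw [← PrimeSpectrum.localization_away_comap_range L' f]
      exact ⟨z, rfl⟩
    haveI := hW.isOpenImmersion_fromSpec
    have hra : Set.range (j ≫ a) ⊆ Set.range hW.fromSpec := by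
      rintro _ ⟨z, rfl⟩
      rw [hW.range_fromSpec]
      exact hfW (hrj z)
    have hrb : Set.range (j ≫ b) ⊆ Set.range hW.fromSpec := by
      rintro _ ⟨z, rfl⟩
      rw [hW.range_fromSpec, show (j ≫ b) z = (j ≫ a) z from congr($hb.symm (j z))]
      exact hfW (hrj z)
    rw [← IsOpenImmersion.lift_fac hW.fromSpec (j ≫ a) hra, ← IsOpenImmersion.lift_fac hW.fromSpec (j ≫ b) hrb]
    congr 1
    obtain ⟨φa, hφa⟩ := Spec.map_surjective (IsOpenImmersion.lift hW.fromSpec (j ≫ a) hra)
    obtain ⟨φb, hφb⟩ := Spec.map_surjective (IsOpenImmersion.lift hW.fromSpec (j ≫ b) hrb)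
    rw [← hφa, ← hφb]
    congr 1
    let q : Spec (CommRingCat.of (L' ⊗[L] M)) ⟶ Spec (CommRingCat.of L') :=
      Spec.map (CommRingCat.ofHom (algebraMap L' (L' ⊗[L] M)))
    have hq : q ≫ j ≫ a = q ≫ j ≫ b := by
      have e : q ≫ j = Spec.map (CommRingCat.ofHom (Algebra.TensorProduct.includeRight : M →ₐ[L] L' ⊗[L] M).toRingHom) ≫ π := by
        rw [← Spec.map_comp, ← Spec.map_comp, ← CommRingCat.ofHom_comp, ← CommRingCat.ofHom_comp,
          AlgHom.toRingHom_eq_coe, AlgHom.comp_algebraMap, ← IsScalarTower.algebraMap_eq]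
      rw [reassoc_of% e, reassoc_of% e, h]
    have hq' : q ≫ Spec.map φa = q ≫ Spec.map φb := by
      rw [← cancel_mono hW.fromSpec, hφa, hφb, Category.assoc, Category.assoc, IsOpenImmersion.lift_fac,
        IsOpenImmersion.lift_fac, hq]
    rw [← Spec.map_comp, ← Spec.map_comp] at hq'
    have := Spec.map_injective hq'
    refine CommRingCat.hom_ext (RingHom.ext fun e => hinj L' ?_)
    exact congr($this e)
  refine ⟨j.opensRange, ?_, ?_⟩
  · show x ∈ Set.range (PrimeSpectrum.comap (algebraMap L L'))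
    rw [PrimeSpectrum.localization_away_comap_range L' f]
    exact hxf
  · rw [← cancel_epi j.isoOpensRange.hom, Scheme.Hom.isoOpensRange_hom_ι_assoc, Scheme.Hom.isoOpensRange_hom_ι_assoc, hj]

variable {C B T : Type u} [CommRing C] [CommRing B] [CommRing T] [Algebra C B]

/-- The retraction survives base change. -/
theorem epi_spec_baseChange (R : B →ₗ[C] C) (hR : R 1 = 1) (L : Type u) [CommRing L] [Algebra C L] :
    Epi (Spec.map (CommRingCat.ofHom (algebraMap L (L ⊗[C] B)))) := by
  refine epi_spec ((Algebra.TensorProduct.rid C L L).toLinearEquiv.toLinearMap ∘ₗ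
    TensorProduct.AlgebraTensorModule.map (LinearMap.id : L →ₗ[L] L) R) ?_
  simp [Algebra.TensorProduct.one_def, hR]

theorem key_aux {L M : Type u} [CommRing L] [CommRing M] [Algebra C L] (c : C) (lM : L →+* M) (iB : B →+* M)
    (hcomm : iB.comp (algebraMap C B) = lM.comp (algebraMap C L)) (f : Localization.Away c →+* L)
    (hf : f.comp (algebraMap C (Localization.Away c)) = algebraMap C L) {Z : Scheme.{u}}
    (ψ : Spec (CommRingCat.of B) ⟶ Z) (a : Spec (CommRingCat.of (Localization.Away c)) ⟶ Z)
    (ha : Spec.map (CommRingCat.ofHom (IsLocalization.Away.map (Localization.Away c)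
        (Localization.Away (algebraMap C B c)) (algebraMap C B) c)) ≫ a =
      Spec.map (CommRingCat.ofHom (algebraMap B (Localization.Away (algebraMap C B c)))) ≫ ψ) :
    Spec.map (CommRingCat.ofHom lM) ≫ Spec.map (CommRingCat.ofHom f) ≫ a = Spec.map (CommRingCat.ofHom iB) ≫ ψ := by
  have hu : IsUnit (iB (algebraMap C B c)) := by
    have h1 : iB (algebraMap C B c) = lM (f (algebraMap C (Localization.Away c) c)) := by
      rw [← RingHom.comp_apply f, hf, ← RingHom.comp_apply iB, hcomm, RingHom.comp_apply]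
    rw [h1]
    exact ((IsLocalization.Away.algebraMap_isUnit c).map f).map _
  let θ : Localization.Away (algebraMap C B c) →+* M :=
    IsLocalization.Away.lift (S := Localization.Away (algebraMap C B c)) (P := M) (g := iB) (algebraMap C B c) hu
  have hθ : θ.comp (algebraMap B (Localization.Away (algebraMap C B c))) = iB := IsLocalization.Away.lift_comp _ hu
  have hθ2 : θ.comp (IsLocalization.Away.map (Localization.Away c) (Localization.Away (algebraMap C B c))
      (algebraMap C B) c) = lM.comp f := by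
    refine IsLocalization.ringHom_ext (Submonoid.powers c) ?_
    rw [RingHom.comp_assoc, RingHom.comp_assoc, hf, IsLocalization.Away.map, IsLocalization.map_comp,
      ← RingHom.comp_assoc, hθ, hcomm]
  rw [← Spec.map_comp_assoc, ← CommRingCat.ofHom_comp, ← hθ2, CommRingCat.ofHom_comp, Spec.map_comp_assoc, ha,
    ← Spec.map_comp_assoc, ← CommRingCat.ofHom_comp, hθ]

theorem compat_aux {Z : Scheme.{u}} (ψ : Spec (CommRingCat.of B) ⟶ Z) (c c' : C)
    (a : Spec (CommRingCat.of (Localization.Away c)) ⟶ Z) (a' : Spec (CommRingCat.of (Localization.Away c')) ⟶ Z)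
    (ha : Spec.map (CommRingCat.ofHom (IsLocalization.Away.map (Localization.Away c)
        (Localization.Away (algebraMap C B c)) (algebraMap C B) c)) ≫ a =
      Spec.map (CommRingCat.ofHom (algebraMap B (Localization.Away (algebraMap C B c)))) ≫ ψ)
    (ha' : Spec.map (CommRingCat.ofHom (IsLocalization.Away.map (Localization.Away c')
        (Localization.Away (algebraMap C B c')) (algebraMap C B) c')) ≫ a' =
      Spec.map (CommRingCat.ofHom (algebraMap B (Localization.Away (algebraMap C B c')))) ≫ ψ)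
    {L : Type u} [CommRing L] [Algebra C L] (f : Localization.Away c →+* L) (f' : Localization.Away c' →+* L)
    {M : Type u} [CommRing M] (lM : L →+* M) (iB : B →+* M)
    (hcomm : iB.comp (algebraMap C B) = lM.comp (algebraMap C L))
    (hf : f.comp (algebraMap C (Localization.Away c)) = algebraMap C L)
    (hf' : f'.comp (algebraMap C (Localization.Away c')) = algebraMap C L) :
    Spec.map (CommRingCat.ofHom lM) ≫ Spec.map (CommRingCat.ofHom f) ≫ a =
      Spec.map (CommRingCat.ofHom lM) ≫ Spec.map (CommRingCat.ofHom f') ≫ a' :=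
  (key_aux c lM iB hcomm f hf ψ a ha).trans (key_aux c' lM iB hcomm f' hf' ψ a' ha').symm

/-- An invariant morphism descends along a map with a retraction onto the invariants. -/
theorem existsUnique_desc (ρ ι : B →+* T) (hρι : ∀ c : C, ρ (algebraMap C B c) = ι (algebraMap C B c))
    (hinv : ∀ b, ρ b = ι b → ∃ c, algebraMap C B c = b) (R : B →ₗ[C] C) (hR : R 1 = 1)
    (hsat : ∀ K : Set (PrimeSpectrum B), IsClosed K → PrimeSpectrum.comap ρ ⁻¹' K = PrimeSpectrum.comap ι ⁻¹' K →
      ∃ b : Ideal B, PrimeSpectrum.zeroLocus (b : Set B) = K ∧ ∀ y ∈ b, algebraMap C B (R y) ∈ b)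
    {Z : Scheme.{u}} (ψ : Spec (CommRingCat.of B) ⟶ Z)
    (hψ : Spec.map (CommRingCat.ofHom ρ) ≫ ψ = Spec.map (CommRingCat.ofHom ι) ≫ ψ) :
    ∃! χ : Spec (CommRingCat.of C) ⟶ Z, Spec.map (CommRingCat.ofHom (algebraMap C B)) ≫ χ = ψ := by
  let p := Spec.map (CommRingCat.ofHom (algebraMap C B))
  haveI : Epi p := epi_spec R hR
  let Good : C → Prop := fun c => ∃ W : Z.Opens, IsAffineOpen W ∧
    ((PrimeSpectrum.basicOpen (algebraMap C B c) : Set (PrimeSpectrum B)) ⊆ ψ.base ⁻¹' (W : Set Z))
  have hspan : Ideal.span (Set.range fun c : {c // Good c} => c.1) = ⊤ := by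
    have hb : ∀ W : Z.affineOpens, ∃ b : Ideal B,
        PrimeSpectrum.zeroLocus (b : Set B) = (ψ.base ⁻¹' (W.1 : Set Z))ᶜ ∧
          ∀ y ∈ b, algebraMap C B (R y) ∈ b := fun W => by
      refine hsat _ (ψ ⁻¹ᵁ W.1).isOpen.isClosed_compl (Set.ext fun t => ?_)
      show ¬ _ ↔ ¬ _
      refine not_congr ?_
      show ψ (Spec.map (CommRingCat.ofHom ρ) t) ∈ W.1 ↔ ψ (Spec.map (CommRingCat.ofHom ι) t) ∈ W.1
      rw [show ψ (Spec.map (CommRingCat.ofHom ρ) t) = ψ (Spec.map (CommRingCat.ofHom ι) t) from congr($hψ t)]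
    choose b hbK hbR using hb
    have hone : (1 : B) ∈ ⨆ W, b W := by
      rw [← Ideal.eq_top_iff_one, ← PrimeSpectrum.zeroLocus_empty_iff_eq_top, PrimeSpectrum.zeroLocus_iSup,
        Set.eq_empty_iff_forall_notMem]
      intro x hx
      obtain ⟨W, hW, hxW, -⟩ :=
        TopologicalSpace.Opens.isBasis_iff_nbhd.mp Z.isBasis_affineOpens (show ψ x ∈ (⊤ : Z.Opens) from trivial)
      have h2 := Set.mem_iInter.1 hx ⟨W, hW⟩
      rw [hbK] at h2
      exact h2 hxW
    have key : ∀ y ∈ ⨆ W, b W, R y ∈ Ideal.span (Set.range fun c : {c // Good c} => c.1) := fun y hy => by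
      refine Submodule.iSup_induction b (motive := fun y => R y ∈ Ideal.span (Set.range fun c : {c // Good c} => c.1))
        hy (fun W z hz => ?_) (by rw [map_zero]; exact zero_mem _) (fun u v hu hv => by rw [map_add]; exact add_mem hu hv)
      refine Ideal.subset_span ⟨⟨R z, W.1, W.2, fun x hx => ?_⟩, rfl⟩
      by_contra hxW
      have hxz : x ∈ PrimeSpectrum.zeroLocus (b W : Set B) := by rw [hbK]; exact hxW
      exact hx (hxz (hbR W z hz))
    rw [Ideal.eq_top_iff_one, ← hR]
    exact key 1 hone
  have hloc : ∀ c : {c // Good c}, ∃ a : Spec (CommRingCat.of (Localization.Away c.1)) ⟶ Z,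
      Spec.map (CommRingCat.ofHom (IsLocalization.Away.map (Localization.Away c.1)
        (Localization.Away (algebraMap C B c.1)) (algebraMap C B) c.1)) ≫ a =
      Spec.map (CommRingCat.ofHom (algebraMap B (Localization.Away (algebraMap C B c.1)))) ≫ ψ := by
    rintro ⟨c, W, hW, hcW⟩
    haveI := hW.isOpenImmersion_fromSpec
    let c' := algebraMap C B c
    let Bc := Localization.Away c'
    let Cc := Localization.Away c
    let Tc := Localization.Away (ι c')
    have hu : IsUnit (((algebraMap T Tc).comp ρ) c') := by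
      rw [RingHom.comp_apply, hρι]; exact IsLocalization.Away.algebraMap_isUnit _
    let ρc : Bc →+* Tc := IsLocalization.Away.lift c' hu
    let ιc : Bc →+* Tc := IsLocalization.Away.map Bc Tc ι c'
    let j : Spec (CommRingCat.of Bc) ⟶ Spec (CommRingCat.of B) := Spec.map (CommRingCat.ofHom (algebraMap B Bc))
    have hr : Set.range (j ≫ ψ) ⊆ Set.range hW.fromSpec := by
      rintro _ ⟨z, rfl⟩
      rw [hW.range_fromSpec]
      refine hcW ?_
      rw [← PrimeSpectrum.localization_away_comap_range Bc c']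
      exact ⟨z, rfl⟩
    obtain ⟨g, hg⟩ := Spec.map_surjective (IsOpenImmersion.lift hW.fromSpec (j ≫ ψ) hr)
    have e1 : ρc.comp (algebraMap B Bc) = (algebraMap T Tc).comp ρ := IsLocalization.Away.lift_comp c' hu
    have e2 : ιc.comp (algebraMap B Bc) = (algebraMap T Tc).comp ι := IsLocalization.map_comp _
    have ea : Spec.map (CommRingCat.ofHom ρc) ≫ j =
        Spec.map (CommRingCat.ofHom (algebraMap T Tc)) ≫ Spec.map (CommRingCat.ofHom ρ) := by
      rw [← Spec.map_comp, ← Spec.map_comp, ← CommRingCat.ofHom_comp, ← CommRingCat.ofHom_comp, e1]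
    have eb : Spec.map (CommRingCat.ofHom ιc) ≫ j =
        Spec.map (CommRingCat.ofHom (algebraMap T Tc)) ≫ Spec.map (CommRingCat.ofHom ι) := by
      rw [← Spec.map_comp, ← Spec.map_comp, ← CommRingCat.ofHom_comp, ← CommRingCat.ofHom_comp, e2]
    have hgg : g ≫ CommRingCat.ofHom ρc = g ≫ CommRingCat.ofHom ιc := by
      apply Spec.map_injective
      rw [Spec.map_comp, Spec.map_comp, ← cancel_mono hW.fromSpec, hg, Category.assoc, Category.assoc,
        IsOpenImmersion.lift_fac, reassoc_of% ea, reassoc_of% eb, hψ]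
    let κ : Cc →+* Bc := IsLocalization.Away.map Cc Bc (algebraMap C B) c
    have hκ : Function.Injective κ := by
      rw [injective_iff_map_eq_zero]
      intro x hx
      obtain ⟨d, s, rfl⟩ := IsLocalization.exists_mk'_eq (Submonoid.powers c) x
      change IsLocalization.map Bc (algebraMap C B) _ (IsLocalization.mk' Cc d s) = 0 at hx
      rw [IsLocalization.map_mk', IsLocalization.mk'_eq_zero_iff] at hx
      obtain ⟨⟨_, n, rfl⟩, hn⟩ := hx
      refine (IsLocalization.mk'_eq_zero_iff _ _).2 ⟨⟨c ^ n, n, rfl⟩, ?_⟩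
      have hn' : algebraMap C B (c ^ n * d) = 0 := by rw [map_mul, map_pow]; exact hn
      have := congrArg R (show (c ^ n * d) • (1 : B) = 0 by rw [Algebra.smul_def, mul_one, hn'])
      rw [map_smul, hR, smul_eq_mul, mul_one, map_zero] at this
      exact this
    have hrange : ∀ z : Γ(Z, W), g z ∈ κ.range := by
      intro z
      have hz : ρc (g z) = ιc (g z) := congr($hgg z)
      obtain ⟨⟨y, ⟨_, n, rfl⟩⟩, hy⟩ := IsLocalization.surj (Submonoid.powers c') (g z)
      simp only at hy
      have h1 : algebraMap T Tc (ρ y) = algebraMap T Tc (ι y) := by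
        have h2 := congrArg ρc hy
        have h3 := congrArg ιc hy
        rw [map_mul] at h2 h3
        have e1' : ∀ x, ρc (algebraMap B Bc x) = algebraMap T Tc (ρ x) := fun x => congr($e1 x)
        have e2' : ∀ x, ιc (algebraMap B Bc x) = algebraMap T Tc (ι x) := fun x => congr($e2 x)
        rw [e1', e1'] at h2
        rw [e2', e2'] at h3
        refine h2.symm.trans (Eq.trans ?_ h3)
        rw [map_pow ρ, map_pow ι, hρι]
        exact congrArg (· * _) hz
      obtain ⟨⟨_, m, rfl⟩, hm⟩ := (IsLocalization.eq_iff_exists (Submonoid.powers (ι c')) Tc).1 h1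
      simp only at hm
      obtain ⟨d, hd⟩ := hinv (c' ^ m * y) (by
        rw [map_mul, map_mul, map_pow ρ, map_pow ι, hρι]
        exact hm)
      refine ⟨IsLocalization.mk' Cc d (⟨c ^ (m + n), m + n, rfl⟩ : Submonoid.powers c), ?_⟩
      show IsLocalization.map Bc (algebraMap C B) _ (IsLocalization.mk' Cc d _) = _
      rw [IsLocalization.map_mk', IsLocalization.mk'_eq_iff_eq_mul, hd]
      show algebraMap B Bc (c' ^ m * y) = g z * algebraMap B Bc (algebraMap C B (c ^ (m + n)))
      rw [map_mul, ← hy, map_pow (algebraMap C B), pow_add, map_mul]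
      ring
    let e := RingEquiv.ofBijective κ.rangeRestrict
      ⟨fun a b hab => hκ (congrArg Subtype.val hab), RingHom.rangeRestrict_surjective _⟩
    let φ : Γ(Z, W) ⟶ CommRingCat.of Cc := CommRingCat.ofHom (e.symm.toRingHom.comp (g.hom.codRestrict _ hrange))
    have hφ : φ ≫ CommRingCat.ofHom κ = g := by
      refine CommRingCat.hom_ext (RingHom.ext fun z => ?_)
      exact congrArg Subtype.val (e.apply_symm_apply ⟨g z, hrange z⟩)
    refine ⟨Spec.map φ ≫ hW.fromSpec, ?_⟩
    show Spec.map (CommRingCat.ofHom κ) ≫ _ = _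
    rw [← Spec.map_comp_assoc, hφ, hg, IsOpenImmersion.lift_fac]
  choose a ha using hloc
  let 𝒰 := (Scheme.affineOpenCoverOfSpanRangeEqTop (R := CommRingCat.of C) (fun c : {c // Good c} => c.1) hspan).openCover
  have compat : ∀ i i', pullback.fst (𝒰.f i) (𝒰.f i') ≫ a i = pullback.snd (𝒰.f i) (𝒰.f i') ≫ a i' := by
    intro (i : {c // Good c}) (i' : {c // Good c})
    show pullback.fst (Spec.map (CommRingCat.ofHom (algebraMap C (Localization.Away i.1))))
      (Spec.map (CommRingCat.ofHom (algebraMap C (Localization.Away i'.1)))) ≫ a i = pullback.snd _ _ ≫ a i'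
    let L := Localization.Away i.1 ⊗[C] Localization.Away i'.1
    rw [← cancel_epi (pullbackSpecIso C (Localization.Away i.1) (Localization.Away i'.1)).inv,
      pullbackSpecIso_inv_fst_assoc, pullbackSpecIso_inv_snd_assoc]
    haveI := epi_spec_baseChange R hR L
    rw [← cancel_epi (Spec.map (CommRingCat.ofHom (algebraMap L (L ⊗[C] B))))]
    exact compat_aux ψ i.1 i'.1 (a i) (a i') (ha i) (ha i') (L := L) Algebra.TensorProduct.includeLeftRingHom
      Algebra.TensorProduct.includeRight.toRingHom (M := L ⊗[C] B) (algebraMap L (L ⊗[C] B))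
      (Algebra.TensorProduct.includeRight : B →ₐ[C] L ⊗[C] B).toRingHom
      (RingHom.ext fun x => by
        show (1 : L) ⊗ₜ[C] algebraMap C B x = algebraMap C L x ⊗ₜ[C] (1 : B)
        rw [Algebra.algebraMap_eq_smul_one, TensorProduct.tmul_smul, TensorProduct.smul_tmul', Algebra.algebraMap_eq_smul_one])
      (RingHom.ext fun x => rfl)
      (RingHom.ext fun x => (Algebra.TensorProduct.includeRight : Localization.Away i'.1 →ₐ[C] L).commutes x)
  refine ⟨𝒰.glueMorphisms a compat, ?_, fun χ hχ => ?_⟩
  · refine (Scheme.affineOpenCoverOfSpanRangeEqTop (R := CommRingCat.of B) (fun c : {c // Good c} => algebraMap C B c.1) (by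
      have := congrArg (Ideal.map (algebraMap C B)) hspan
      rwa [Ideal.map_span, Ideal.map_top, ← Set.range_comp] at this)).openCover.hom_ext _ _ fun (c : {c // Good c}) => ?_
    show Spec.map (CommRingCat.ofHom (algebraMap B (Localization.Away (algebraMap C B c.1)))) ≫ p ≫ _ = _ ≫ ψ
    rw [← Spec.map_comp_assoc, ← CommRingCat.ofHom_comp, ← IsLocalization.map_comp
      (Q := Localization.Away (algebraMap C B c.1)) (M := Submonoid.powers c.1) (S := Localization.Away c.1)
      (T := Submonoid.powers (algebraMap C B c.1)) (g := algebraMap C B) (by rintro x ⟨n, rfl⟩; exact ⟨n, (map_pow _ _ _).symm⟩),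
      CommRingCat.ofHom_comp, Spec.map_comp_assoc]
    erw [𝒰.ι_glueMorphisms a compat c]
    exact ha c
  · rw [← cancel_epi p, hχ]
    symm
    refine (Scheme.affineOpenCoverOfSpanRangeEqTop (R := CommRingCat.of B) (fun c : {c // Good c} => algebraMap C B c.1) (by
      have := congrArg (Ideal.map (algebraMap C B)) hspan
      rwa [Ideal.map_span, Ideal.map_top, ← Set.range_comp] at this)).openCover.hom_ext _ _ fun (c : {c // Good c}) => ?_
    show Spec.map (CommRingCat.ofHom (algebraMap B (Localization.Away (algebraMap C B c.1)))) ≫ p ≫ _ = _ ≫ ψ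
    rw [← Spec.map_comp_assoc, ← CommRingCat.ofHom_comp, ← IsLocalization.map_comp
      (Q := Localization.Away (algebraMap C B c.1)) (M := Submonoid.powers c.1) (S := Localization.Away c.1)
      (T := Submonoid.powers (algebraMap C B c.1)) (g := algebraMap C B) (by rintro x ⟨n, rfl⟩; exact ⟨n, (map_pow _ _ _).symm⟩),
      CommRingCat.ofHom_comp, Spec.map_comp_assoc]
    erw [𝒰.ι_glueMorphisms a compat c]
    exact ha c

end Groth.Agent.TameInt
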